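import Mathlib

/-!
Elementary lemmas: involutions with an odd product, and generation of an odd-order subgroup by the
centralizers of the involutions of a four-group acting on it.
-/

set_option autoImplicit false

namespace CfsgLib.FourTransOdd

variable {G : Type*} [Group G]

/-- Squaring is injective on elements of odd order. -/
theorem eq_of_sq_eq {x y : G} (hx : Odd (orderOf x)) (hy : Odd (orderOf y)) (h : x ^ 2 = y ^ 2) :
    x = y := by
  obtain ⟨k, hk⟩ := hx.mul hy
  have e : ∀ z : G, orderOf z ∣ 2 * k + 1 → z = (z ^ 2) ^ (k + 1) := fun z hz => by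
    rw [← pow_mul, show 2 * (k + 1) = (2 * k + 1) + 1 by ring, pow_succ,
      orderOf_dvd_iff_pow_eq_one.mp hz, one_mul]
  rw [e x (hk ▸ Dvd.intro _ rfl), e y (hk ▸ Dvd.intro_left _ rfl), h]

/-- An element of odd order has a square root among its powers. -/
theorem exists_sqrt {y : G} (hy : Odd (orderOf y)) : ∃ x ∈ Subgroup.zpowers y, x ^ 2 = y := by
  obtain ⟨k, hk⟩ := hy
  refine ⟨y ^ (k + 1), pow_mem (Subgroup.mem_zpowers y) _, ?_⟩
  rw [← pow_mul, show (k + 1) * 2 = orderOf y + 1 by omega, pow_succ, pow_orderOf_eq_one, one_mul]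

/-- Two involutions whose product has odd order are conjugate by a power of the product. -/
theorem exists_conj_of_odd {t t' : G} (ht : t * t = 1) (ht' : t' * t' = 1)
    (hodd : Odd (orderOf (t' * t))) : ∃ h ∈ Subgroup.zpowers (t' * t), h * t * h⁻¹ = t' := by
  obtain ⟨h, hh, h2⟩ := exists_sqrt hodd
  refine ⟨h, hh, ?_⟩
  have hy : t * (t' * t) * t⁻¹ = (t' * t)⁻¹ := by
    rw [mul_inv_rev, inv_eq_of_mul_eq_one_right ht, inv_eq_of_mul_eq_one_right ht', mul_assoc,
      mul_assoc, ht, mul_one]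
  have hht : t * h * t⁻¹ = h⁻¹ := by
    obtain ⟨n, rfl⟩ := Subgroup.mem_zpowers_iff.mp hh
    rw [← conj_zpow, hy, inv_zpow]
  have e : t * h⁻¹ = h * t := by
    rw [← hht, ← mul_assoc, ← mul_assoc, ht, one_mul, inv_eq_of_mul_eq_one_right ht]
  rw [mul_assoc, e, ← mul_assoc, ← sq, h2, mul_assoc, ht, mul_one]

/-- An odd-order subgroup normalised by a four-group is generated by its three centralizers. -/
theorem le_of_four_group {H K : Subgroup G} (hH : ∀ x ∈ H, Odd (orderOf x)) {z s : G}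
    (hz : z * z = 1) (hs : s * s = 1) (hzs : Commute z s)
    (hzH : ∀ x ∈ H, z * x * z ∈ H) (hsH : ∀ x ∈ H, s * x * s ∈ H)
    (hCz : ∀ x ∈ H, Commute z x → x ∈ K) (hCs : ∀ x ∈ H, Commute s x → x ∈ K)
    (hCzs : ∀ x ∈ H, Commute (z * s) x → x ∈ K) : H ≤ K := by
  have conjmul : ∀ {w : G}, w * w = 1 → ∀ a b : G, w * (a * b) * w = (w * a * w) * (w * b * w) :=
    fun {w} hw a b => by simp [mul_assoc, ← mul_assoc w w, hw]
  have conjinv : ∀ {w : G}, w * w = 1 → ∀ a : G, w * a⁻¹ * w = (w * a * w)⁻¹ := fun {w} hw a => by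
    rw [mul_inv_rev, mul_inv_rev, inv_eq_of_mul_eq_one_right hw, mul_assoc]
  have conjconj : ∀ {w : G}, w * w = 1 → ∀ a : G, w * (w * a * w) * w = a := fun {w} hw a => by
    simp [mul_assoc, ← mul_assoc w w, hw]
  have comm : ∀ {w : G}, w * w = 1 → ∀ a : G, w * a * w = a → Commute w a := fun {w} hw a h => by
    show w * a = a * w
    calc w * a = w * a * (w * w) := by rw [hw, mul_one]
      _ = a * w := by rw [← mul_assoc, h]
  have uniq : ∀ {a b X Y : G}, a ∈ H → X ∈ H → Y ∈ H → X * a * X = b → Y * a * Y = b → X = Y := by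
    intro a b X Y ha hX hY e1 e2
    refine mul_left_cancel (eq_of_sq_eq (hH _ (mul_mem ha hX)) (hH _ (mul_mem ha hY)) ?_)
    rw [sq, sq, mul_assoc, ← mul_assoc X, e1, mul_assoc, ← mul_assoc Y, e2]
  have sqrtH : ∀ {y : G}, y ∈ H → ∃ x ∈ H, x ^ 2 = y := fun {y} hy => by
    obtain ⟨x, hx, hx2⟩ := exists_sqrt (hH y hy)
    exact ⟨x, Subgroup.zpowers_le_of_mem hy hx, hx2⟩
  intro x hx
  obtain ⟨i, hi, hi2⟩ := sqrtH (mul_mem (inv_mem (hzH x hx)) hx)
  have hzi : z * i * z = i⁻¹ := by
    refine eq_of_sq_eq (hH _ (hzH i hi)) (hH _ (inv_mem hi)) ?_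
    rw [inv_pow, sq, ← conjmul hz, ← sq, hi2, conjmul hz, conjinv hz, conjconj hz, mul_inv_rev,
      inv_inv]
  have hc : x * i⁻¹ ∈ K := by
    refine hCz _ (mul_mem hx (inv_mem hi)) (comm hz _ ?_)
    rw [conjmul hz, conjinv hz, hzi, inv_inv]
    apply mul_right_cancel (b := i)
    rw [inv_mul_cancel_right, mul_assoc, ← sq, hi2, mul_inv_cancel_left]
  suffices i ∈ K by simpa using mul_mem hc this
  set a := s * i * s with ha
  have haH : a ∈ H := hsH i hi
  -- `X` is the mean of `i` and its image under `s`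
  obtain ⟨r, hr, hr2⟩ := sqrtH (mul_mem (inv_mem haH) hi)
  set X := a * r with hXdef
  have hX : X ∈ H := mul_mem haH hr
  have eX : X * a⁻¹ * X = i := by
    rw [hXdef, mul_assoc, inv_mul_cancel_left, mul_assoc, ← sq, hr2, mul_inv_cancel_left]
  have eX' : X * i⁻¹ * X = a := by
    conv_lhs => rw [← eX]
    group
  have hsX : s * X * s = X := by
    refine uniq (inv_mem haH) (hsH X hX) hX ?_ eX
    have e := congrArg (fun g => s * g * s) eX'
    simp only [conjmul hs, conjinv hs] at e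
    rw [← ha] at e
    rw [e, ha, conjconj hs]
  have hzX : z * X * z = X⁻¹ := by
    have e := congrArg (fun g => z * g * z) eX
    simp only [conjmul hz, conjinv hz] at e
    have hza : z * a * z = a⁻¹ := by
      calc z * a * z = (z * s) * i * (s * z) := by rw [ha]; group
        _ = (s * z) * i * (z * s) := by rw [hzs.eq]
        _ = s * (z * i * z) * s := by group
        _ = a⁻¹ := by rw [hzi, conjinv hs]
    rw [hza, inv_inv, hzi] at e
    rw [eq_inv_iff_mul_eq_one, mul_eq_one_iff_eq_inv]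
    have e' : (z * X * z)⁻¹ * a⁻¹ * (z * X * z)⁻¹ = i := by
      rw [← inv_inv i, ← e]
      group
    exact (inv_inj.mp ((uniq (inv_mem haH) (inv_mem (hzH X hX)) hX e' eX).trans (inv_inv X).symm))
  obtain ⟨j, hj, hj2⟩ := sqrtH hX
  have hsj : s * j * s = j := eq_of_sq_eq (hH _ (hsH j hj)) (hH _ hj) (by
    rw [sq, ← conjmul hs, ← sq, hj2, hsX])
  have hzj : z * j * z = j⁻¹ := eq_of_sq_eq (hH _ (hzH j hj)) (hH _ (inv_mem hj)) (by
    rw [inv_pow, sq, ← conjmul hz, ← sq, hj2, hzX])
  have hjK : j ∈ K := hCs j hj (comm hs j hsj)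
  have hk : j⁻¹ * i * j⁻¹ ∈ K := by
    have hzs2 : z * s * (z * s) = 1 := by
      rw [mul_assoc, ← mul_assoc s z, ← hzs.eq, mul_assoc z s s, hs, mul_one, hz]
    refine hCzs _ (mul_mem (mul_mem (inv_mem hj) hi) (inv_mem hj)) (comm hzs2 _ ?_)
    have step : ∀ g, z * s * g * (z * s) = z * (s * g * s) * z := fun g => by
      conv_lhs => arg 2; rw [hzs.eq]
      group
    rw [step, conjmul hs, conjmul hs, conjinv hs, hsj, conjmul hz, conjmul hz, conjinv hz, hzj,
      inv_inv]
    have hza : z * a * z = a⁻¹ := by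
      calc z * a * z = (z * s) * i * (s * z) := by rw [ha]; group
        _ = (s * z) * i * (z * s) := by rw [hzs.eq]
        _ = s * (z * i * z) * s := by group
        _ = a⁻¹ := by rw [hzi, conjinv hs]
    rw [← ha, hza]
    apply mul_left_cancel (a := j)
    apply mul_right_cancel (b := j)
    have h1 : j * (j * a⁻¹ * j) * j = i := by rw [← eX, ← hj2, sq]; group
    rw [h1]
    group
  simpa [mul_assoc] using mul_mem (mul_mem hjK hk) hjK

end CfsgLib.FourTransOdd
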